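import Cfsg.Agent.Lib.Fischer.Relations.TwentyFour.DerivedAut.Star

/-!
# Extending an automorphism of the derived group

The permutation of the members given by an automorphism of the derived group commutes with conjugation, so it is
induced by an automorphism of the group which extends the given one.
-/

set_option autoImplicit false
set_option linter.unusedSectionVars false

namespace Cfsg.Lib.Fischer.Relations

open Cfsg Cfsg.Lib.Fischer

universe u

variable {G : Type u} [Group G] [Finite G] {D : Set G}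

/-- A map of members giving the automorphism on pairs. -/
def IsMemberMap (D : Set G) (ψ : MulAut ↥(commutator G)) (π : G → G) : Prop :=
  ∀ a ∈ D, π a ∈ D ∧ ∀ b ∈ perp D a, π b ∈ perp D (π a) ∧ derExt ψ (a * b) = π a * π b

namespace M24Data

variable {d : G} (K : M24Data D d)
include K

theorem eq_of_centralizes {g h : G} (hgh : ∀ a ∈ D, g * a * g⁻¹ = h * a * h⁻¹) : g = h := by
  have hc : h⁻¹ * g ∈ Subgroup.center G := by
    rw [Subgroup.mem_center_iff]
    intro x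
    refine (Subgroup.mem_centralizer_singleton_iff.1 ?_).symm
    revert x
    suffices hall : ∀ a ∈ D, Commute a (h⁻¹ * g) from fun x => by
      have hle : (⊤ : Subgroup G) ≤ Subgroup.centralizer ({h⁻¹ * g} : Set G) := by
        rw [← K.trans.gen, Subgroup.closure_le]
        exact fun a ha => Subgroup.mem_centralizer_singleton_iff.2 (hall a ha).eq
      exact Subgroup.mem_centralizer_singleton_iff.2 (Subgroup.mem_centralizer_singleton_iff.1 (hle (Subgroup.mem_top x))).symm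
    intro a ha
    refine Commute.symm (mul_inv_eq_iff_eq_mul.1 ?_)
    calc h⁻¹ * g * a * (h⁻¹ * g)⁻¹ = h⁻¹ * (g * a * g⁻¹) * h := by group
      _ = a := by rw [hgh a ha]; group
  rw [K.cen, Subgroup.mem_bot, inv_mul_eq_one] at hc
  exact hc.symm

/-- Some member commutes with two given ones. -/
theorem exists_perp_both {a b : G} (ha : a ∈ D) (hb : b ∈ D) : ∃ e, e ∈ perp D a ∧ e ∈ perp D b := by
  by_cases hc : Commute a b
  · obtain ⟨g, hg⟩ := K.trans.trans d K.mem a ha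
    obtain ⟨u₀, hu₀, -⟩ := exists_bar (S := perp D d) K.imgTrans.ne.choose_spec
    have hu : g * u₀ * g⁻¹ ∈ perp D a := hg ▸ conj_perp K.fis g d hu₀
    rcases eq_or_ne a b with rfl | hne
    · exact ⟨_, hu, hu⟩
    · obtain ⟨w, hw⟩ := K.exists_triad ha (show b ∈ perp D a from ⟨hb, hne.symm, hc⟩)
      exact ⟨w, hw.dz, hw.yz⟩
  · obtain ⟨e, he, hec⟩ := common_nonempty K.fis ha hb hc
    exact ⟨e, he, he.1, fun e' => hc (e' ▸ he.2.2), hec⟩

theorem exists_memberMap (ψ : MulAut ↥(commutator G)) : ∃ π : G → G, IsMemberMap D ψ π := by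
  classical
  choose! p hp hq using fun a (ha : a ∈ D) => K.exists_star ψ ha
  refine ⟨p, fun a ha => ⟨hp a ha, fun b hb => ?_⟩⟩
  obtain ⟨c, hc⟩ := K.exists_triad ha hb
  have hba : a ∈ perp D b := ⟨ha, hb.2.1.symm, hb.2.2.symm⟩
  obtain ⟨q, hq1, e1⟩ := hq a ha b hb
  obtain ⟨q', hq', e2⟩ := hq b hb.1 a hba
  rw [← hb.2.2.eq] at e2
  rcases K.pair_eq (hp a ha) hq1 (hp b hb.1) hq' (e1.symm.trans e2) with ⟨f1, -⟩ | ⟨-, f2⟩
  · exfalso
    obtain ⟨r, hr, e3⟩ := hq a ha c hc.dz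
    obtain ⟨s, hs, e4⟩ := hq b hb.1 c hc.yz
    have hmul : derExt ψ (b * c) = q * r := by
      rw [show b * c = a * b * (a * c) by
        rw [show a * b * (a * c) = a * (b * a) * c by group, hb.2.2.symm.eq, ← mul_assoc,
          mul_self K.trans ha, one_mul],
        derExt_mul ψ (K.pair_mem ha hb.1) (K.pair_mem ha hc.dz.1), e1, e3,
        show p a * q * (p a * r) = p a * (q * p a) * r by group, hq1.2.2.symm.eq, ← mul_assoc,
        mul_self K.trans (hp a ha), one_mul]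
    rw [← f1] at hs e4
    have hsr : s = p a * (q * r) := by
      rw [← hmul, e4, ← mul_assoc, mul_self K.trans (hp a ha), one_mul]
    have hnqr : q ≠ r := fun h => by
      subst h
      exact hc.yz.2.1 (mul_left_cancel (derExt_inj ψ (K.pair_mem ha hb.1) (K.pair_mem ha hc.dz.1)
        (e1.trans e3.symm))).symm
    have h3 : IsProd D 1 s := ⟨[s], by simp, rfl, by simp [hs.1], by simp, by simp⟩
    have hqr : Commute q r := by
      have hcm : Commute (derExt ψ (a * b)) (derExt ψ (a * c)) := by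
        have h0 : Commute (a * b) (a * c) :=
          (((Commute.refl a).mul_right hc.dz.2.2).mul_left (hb.2.2.symm.mul_right hc.yz.2.2))
        show _ * _ = _ * _
        rw [← derExt_mul ψ (K.pair_mem ha hb.1) (K.pair_mem ha hc.dz.1), h0.eq,
          derExt_mul ψ (K.pair_mem ha hc.dz.1) (K.pair_mem ha hb.1)]
      rw [e1, e3] at hcm
      have h1 : Commute (p a) (p a * r) := (Commute.refl _).mul_right hr.2.2
      have h2 : Commute q (p a * r) := by
        have := ((h1.inv_left).mul_left hcm)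
        rwa [inv_mul_cancel_left] at this
      have := (hq1.2.2.symm.inv_right).mul_right h2
      rwa [inv_mul_cancel_left] at this
    have h4 : IsProd D 3 s := ⟨[p a, q, r], by simp [hq1.2.1.symm, hr.2.1.symm, hnqr], rfl,
      by simp [hp a ha, hq1.1, hr.1], by simp [hq1.2.2, hq1.2.2.symm, hr.2.2, hr.2.2.symm, hqr, hqr.symm],
      by rw [hsr]; simp⟩
    exact absurd (K.prod_length (by norm_num) (by norm_num) h3 h4) (by norm_num)
  · exact ⟨f2 ▸ hq1, by rw [e1, f2]⟩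

theorem memberMap_unique {ψ : MulAut ↥(commutator G)} {π : G → G} (hπ : IsMemberMap D ψ π) {a : G} (ha : a ∈ D)
    {p : G} (hp : p ∈ D) (h : ∀ b ∈ perp D a, ∃ q ∈ perp D p, derExt ψ (a * b) = p * q) : π a = p := by
  obtain ⟨g, hg⟩ := K.trans.trans d K.mem a ha
  obtain ⟨u₀, hu₀, -⟩ := exists_bar (S := perp D d) K.imgTrans.ne.choose_spec
  have hb : g * u₀ * g⁻¹ ∈ perp D a := hg ▸ conj_perp K.fis g d hu₀
  obtain ⟨b, rfl⟩ : ∃ b, b = g * u₀ * g⁻¹ := ⟨_, rfl⟩
  obtain ⟨c, hc⟩ := K.exists_triad ha hb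
  obtain ⟨hπa, hπ'⟩ := hπ a ha
  obtain ⟨h1, e1⟩ := hπ' _ hb
  obtain ⟨h2, e2⟩ := hπ' _ hc.dz
  obtain ⟨q, hq, f1⟩ := h _ hb
  obtain ⟨r, hr, f2⟩ := h _ hc.dz
  rcases K.pair_eq hπa h1 hp hq (e1.symm.trans f1) with ⟨e, -⟩ | ⟨-, g1⟩
  · exact e
  rcases K.pair_eq hπa h2 hp hr (e2.symm.trans f2) with ⟨e, -⟩ | ⟨-, g2⟩
  · exact e
  exact absurd (g2.trans g1.symm) ((hπ _ hb.1).2 c hc.yz).1.2.1

theorem memberMap_inv {ψ : MulAut ↥(commutator G)} {π π' : G → G} (hπ : IsMemberMap D ψ π)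
    (hπ' : IsMemberMap D ψ.symm π') {a : G} (ha : a ∈ D) : π' (π a) = a := by
  obtain ⟨g, hg⟩ := K.trans.trans d K.mem a ha
  obtain ⟨u₀, hu₀, -⟩ := exists_bar (S := perp D d) K.imgTrans.ne.choose_spec
  have hb : g * u₀ * g⁻¹ ∈ perp D a := hg ▸ conj_perp K.fis g d hu₀
  obtain ⟨b, rfl⟩ : ∃ b, b = g * u₀ * g⁻¹ := ⟨_, rfl⟩
  obtain ⟨c, hc⟩ := K.exists_triad ha hb
  have back : ∀ u ∈ perp D a, π' (π u) ∈ perp D (π' (π a)) ∧ π' (π a) * π' (π u) = a * u := fun u hu => by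
    obtain ⟨k1, k2⟩ := (hπ a ha).2 u hu
    obtain ⟨k3, k4⟩ := (hπ' _ (hπ a ha).1).2 _ k1
    exact ⟨k3, by rw [← k4, ← k2, derExt_symm ψ (K.pair_mem ha hu.1)]⟩
  obtain ⟨h1, e1⟩ := back _ hb
  obtain ⟨h2, e2⟩ := back _ hc.dz
  rcases K.pair_eq (hπ' _ (hπ a ha).1).1 h1 ha hb e1 with ⟨e, -⟩ | ⟨e, -⟩
  · exact e
  rcases K.pair_eq (hπ' _ (hπ a ha).1).1 h2 ha hc.dz e2 with ⟨e', -⟩ | ⟨e', -⟩
  · exact e'
  exact absurd (e'.symm.trans e) hc.yz.2.1

theorem memberMap_conj {ψ : MulAut ↥(commutator G)} {π : G → G} (hπ : IsMemberMap D ψ π) {g a : G}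
    (hg : g ∈ commutator G) (ha : a ∈ D) : π (g * a * g⁻¹) = derExt ψ g * π a * (derExt ψ g)⁻¹ := by
  refine K.memberMap_unique hπ (K.trans.conj g a ha) (K.trans.conj _ _ (hπ a ha).1) fun b hb => ?_
  obtain ⟨u, rfl⟩ : ∃ u, g * u * g⁻¹ = b := ⟨g⁻¹ * b * g, by group⟩
  have hu : u ∈ perp D a := by
    have := conj_perp K.fis g⁻¹ _ hb
    simpa [mul_assoc] using this
  obtain ⟨k1, k2⟩ := (hπ a ha).2 u hu
  refine ⟨_, conj_perp K.fis (derExt ψ g) _ k1, ?_⟩
  rw [show g * a * g⁻¹ * (g * u * g⁻¹) = g * (a * u) * g⁻¹ by group,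
    derExt_conj ψ hg (K.pair_mem ha hu.1), k2]
  group

/-- An automorphism of the derived group extends to the group. -/
theorem exists_extension (ψ : MulAut ↥(commutator G)) :
    ∃ Φ : MulAut G, ∀ x : ↥(commutator G), Φ (x : G) = (ψ x : G) := by
  classical
  have hD := K.trans
  obtain ⟨π, hπ⟩ := K.exists_memberMap ψ
  obtain ⟨π', hπ'⟩ := K.exists_memberMap ψ.symm
  have hsurj : ∀ y ∈ D, ∃ a ∈ D, π a = y := fun y hy =>
    ⟨π' y, (hπ' y hy).1, K.memberMap_inv hπ' (by simpa using hπ) hy⟩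
  have hcj : ∀ b ∈ D, ∀ a ∈ D, π (b * a * b⁻¹) = π b * π a * (π b)⁻¹ := by
    intro b hb a ha
    obtain ⟨e, hea, heb⟩ := K.exists_perp_both ha hb
    obtain ⟨k1, k2⟩ := (hπ b hb).2 e heb
    obtain ⟨l1, -⟩ := (hπ a ha).2 e hea
    have he1 : e * a * e⁻¹ = a := by rw [hea.2.2.symm.eq, mul_inv_cancel_right]
    have he2 : π e * π a * (π e)⁻¹ = π a := by rw [l1.2.2.symm.eq, mul_inv_cancel_right]
    calc π (b * a * b⁻¹) = π (b * e * a * (b * e)⁻¹) := by
          congr 1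
          rw [show b * e * a * (b * e)⁻¹ = b * (e * a * e⁻¹) * b⁻¹ by group, he1]
      _ = _ := K.memberMap_conj hπ (K.pair_mem hb heb.1) ha
      _ = π b * (π e * π a * (π e)⁻¹) * (π b)⁻¹ := by rw [k2]; group
      _ = _ := by rw [he2]
  let S : Subgroup G :=
    { carrier := {g | ∃ g' : G, ∀ a ∈ D, π (g * a * g⁻¹) = g' * π a * g'⁻¹}
      one_mem' := ⟨1, fun a _ => by simp⟩
      mul_mem' := by
        rintro g h ⟨g', hg⟩ ⟨h', hh⟩
        refine ⟨g' * h', fun a ha => ?_⟩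
        rw [show g * h * a * (g * h)⁻¹ = g * (h * a * h⁻¹) * g⁻¹ by group, hg _ (hD.conj h a ha), hh a ha]
        group
      inv_mem' := by
        rintro g ⟨g', hg⟩
        refine ⟨g'⁻¹, fun a ha => ?_⟩
        have e := hg _ (hD.conj g⁻¹ a ha)
        rw [show g * (g⁻¹ * a * g⁻¹⁻¹) * g⁻¹ = a by group] at e
        rw [e]
        group }
  have hall : ∀ g, ∃ g' : G, ∀ a ∈ D, π (g * a * g⁻¹) = g' * π a * g'⁻¹ := fun g =>
    (show (⊤ : Subgroup G) ≤ S by
      rw [← hD.gen, Subgroup.closure_le]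
      exact fun b hb => ⟨π b, hcj b hb⟩) (Subgroup.mem_top g)
  choose Φ₀ hΦ₀ using hall
  have huniq : ∀ g g' : G, (∀ a ∈ D, π (g * a * g⁻¹) = g' * π a * g'⁻¹) → Φ₀ g = g' := fun g g' h =>
    K.eq_of_centralizes fun y hy => by
      obtain ⟨a, ha, rfl⟩ := hsurj y hy
      rw [← hΦ₀ g a ha, h a ha]
  let Φ₁ : G →* G := MonoidHom.mk' Φ₀ fun g h => huniq _ _ fun a ha => by
    rw [show g * h * a * (g * h)⁻¹ = g * (h * a * h⁻¹) * g⁻¹ by group, hΦ₀ g _ (hD.conj h a ha), hΦ₀ h a ha]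
    group
  have hinj : Function.Injective Φ₁ := fun g h e => K.eq_of_centralizes fun a ha => by
    have e' : π (g * a * g⁻¹) = π (h * a * h⁻¹) := by
      rw [hΦ₀ g a ha, hΦ₀ h a ha, show Φ₀ g = Φ₀ h from e]
    have := congrArg π' e'
    rwa [K.memberMap_inv hπ hπ' (hD.conj g a ha), K.memberMap_inv hπ hπ' (hD.conj h a ha)] at this
  refine ⟨MulEquiv.ofBijective Φ₁ ⟨hinj, Finite.injective_iff_surjective.1 hinj⟩, fun x => ?_⟩
  show Φ₀ x = _
  refine huniq _ _ fun a ha => ?_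
  rw [K.memberMap_conj hπ x.2 ha, derExt_of_mem]

end M24Data

end Cfsg.Lib.Fischer.Relations
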