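import Cfsg.Agent.Lib.Fischer.Relations.TwentyFour.DerivedAut.Extend
import Cfsg.Agent.Lib.Fischer.Relations.TwentyFour.UniqueClass
import Cfsg.Agent.Lib.Fischer.TypeM23.Main
import Cfsg.Agent.Lib.CosetEnum.Fi23Aut

/-!
# The outer automorphism group of the derived group of type M(24)

Every automorphism of a group of type M(24) is inner, as this holds for type M(23) and a member outside a
neighbourhood is nearly determined by its trace; so the derived group has outer automorphism group of order 2.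
-/

set_option autoImplicit false
set_option linter.unusedSectionVars false

namespace Cfsg.Lib.Fischer.Relations

open Cfsg Cfsg.Lib.Fischer

universe u

theorem inner_of_card_out {X Y : Type*} [Group X] [Group Y] (h : Nat.card (Cfsg.Out X) = 1) (e : X ≃* Y)
    (θ : MulAut Y) : ∃ q : Y, ∀ y, θ y = q * y * q⁻¹ := by
  have := (Nat.card_eq_one_iff_unique.1 h).1
  obtain ⟨x, hx⟩ : (e.trans θ).trans e.symm ∈ Cfsg.Inn X :=
    (QuotientGroup.eq_one_iff _).1 (Subsingleton.elim (α := Cfsg.Out X) _ _)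
  refine ⟨e x, fun y => ?_⟩
  have := congrArg e (DFunLike.congr_fun hx (e.symm y))
  simpa using this.symm

variable {G : Type u} [Group G] [Finite G] {D : Set G}

namespace M24Data

variable {d : G} (K : M24Data D d)
include K

theorem map_class (Φ : MulAut G) : Φ '' D = D := by
  have hD := K.trans
  refine K.class_eq ⟨⟨?_, ?_⟩, ⟨Φ d, ⟨d, K.mem, rfl⟩, ?_⟩, ?_⟩
  · rintro _ ⟨a, ha, rfl⟩
    rw [MulEquiv.orderOf_eq]
    exact hD.set.1 a ha
  · rintro _ ⟨a, ha, rfl⟩ _ ⟨b, hb, rfl⟩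
    exact (hD.set.2 a ha b hb).imp (fun h => by rw [← map_mul, ← map_pow, h, map_one])
      (fun h => by rw [← map_mul, ← map_pow, h, map_one])
  · ext x
    constructor
    · rintro ⟨a, ha, rfl⟩
      obtain ⟨g, rfl⟩ := hD.trans d K.mem a ha
      exact isConj_iff.2 ⟨Φ g, by simp⟩
    · intro hx
      obtain ⟨g, rfl⟩ := isConj_iff.1 hx
      exact ⟨Φ.symm g * d * (Φ.symm g)⁻¹, hD.conj _ d K.mem, by simp⟩
  · rw [show (Φ '' D) = (Φ.toMonoidHom : G →* G) '' D from rfl, ← MonoidHom.map_closure, hD.gen,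
      Subgroup.map_top_of_surjective _ Φ.surjective]

/-- Every automorphism of a group of type M(24) is inner. -/
theorem aut_inner (Φ : MulAut G) : ∃ g : G, ∀ x, Φ x = g * x * g⁻¹ := by
  have hD := K.trans
  -- fix `d`
  obtain ⟨g₁, hg₁⟩ := hD.trans (Φ d) ((K.map_class Φ).subset ⟨d, K.mem, rfl⟩) d K.mem
  suffices key : ∀ Ψ : MulAut G, Ψ d = d → ∃ g : G, ∀ x, Ψ x = g * x * g⁻¹ by
    obtain ⟨g, hg⟩ := key (Φ.trans (MulAut.conj g₁)) (by simpa using hg₁)
    refine ⟨g₁⁻¹ * g, fun x => ?_⟩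
    have e : g₁ * Φ x * g₁⁻¹ = g * x * g⁻¹ := hg x
    calc Φ x = g₁⁻¹ * (g₁ * Φ x * g₁⁻¹) * g₁ := by group
      _ = _ := by rw [e]; group
  intro Ψ hΨd
  have hmem : ∀ {x}, x ∈ D → Ψ x ∈ D := fun {x} hx => (K.map_class Ψ).subset ⟨x, hx, rfl⟩
  have hperp : ∀ x, x ∈ perp D d ↔ Ψ x ∈ perp D d := fun x => by
    have hc : Commute d x ↔ Commute d (Ψ x) := by
      refine ⟨fun h => hΨd ▸ h.map Ψ.toMonoidHom, fun h => ?_⟩
      refine Ψ.injective ?_
      show Ψ (d * x) = Ψ (x * d)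
      rw [map_mul, map_mul, hΨd]
      exact h.eq
    constructor
    · rintro ⟨h1, h2, h3⟩
      exact ⟨hmem h1, fun e => h2 (Ψ.injective (e.trans hΨd.symm)), hc.1 h3⟩
    · rintro ⟨h1, h2, h3⟩
      obtain ⟨y, hy, he⟩ := (K.map_class Ψ).symm.subset h1
      exact ⟨Ψ.injective he ▸ hy, fun e => h2 (e ▸ hΨd), hc.2 h3⟩
  have hmap : (Subgroup.closure (perp D d)).map Ψ.toMonoidHom = Subgroup.closure (perp D d) := by
    rw [MonoidHom.map_closure]
    refine congrArg _ (Set.ext fun x => ⟨?_, fun h => ?_⟩)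
    · rintro ⟨y, hy, rfl⟩
      exact (hperp y).1 hy
    · obtain ⟨y, rfl⟩ := Ψ.surjective x
      exact ⟨y, (hperp y).2 h, rfl⟩
  obtain ⟨θH, hθH⟩ : ∃ θH : MulAut ↥(Subgroup.closure (perp D d)), ∀ u, (θH u : G) = Ψ u :=
    ⟨(Ψ.subgroupMap _).trans (MulEquiv.subgroupCongr hmap), fun _ => rfl⟩
  obtain ⟨θ, hθ⟩ : ∃ θ : MulAut (↥(Subgroup.closure (perp D d)) ⧸ Subgroup.center ↥(Subgroup.closure (perp D d))),
      ∀ u : ↥(Subgroup.closure (perp D d)), θ (QuotientGroup.mk u) = QuotientGroup.mk (θH u) :=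
    ⟨QuotientGroup.congr _ _ θH (pair_map_center θH), fun _ => rfl⟩
  obtain ⟨e, -⟩ := M23.exists_equiv K.imgTrans K.imgPrim K.img
  obtain ⟨q, hq⟩ := inner_of_card_out CosetEnum.Fi23Out.card_out e θ
  obtain ⟨k, rfl⟩ := QuotientGroup.mk_surjective q
  have hsub : ∀ u ∈ perp D d, u ∈ D := fun u hu => hu.1
  have hkd : Commute (k : G) d := K.commute_of_mem k.2
  -- fix the neighbourhood
  suffices key : ∀ Λ : MulAut G, Λ d = d → (∀ a ∈ perp D d, Λ a = a) → ∃ g : G, ∀ x, Λ x = g * x * g⁻¹ by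
    have hfixp : ∀ a ∈ perp D d, (Ψ.trans (MulAut.conj (k : G)⁻¹)) a = a := fun a ha => by
      have h1 := (hperp a).1 ha
      have h2 : (k : G) * a * (k : G)⁻¹ ∈ perp D d := K.conj_mem hkd ha
      have h3 : Ψ a = k * a * (k : G)⁻¹ := by
        refine bar_inj hD hsub K.nc h1 h2 ?_
        rw [K.bar_conj k.2 ha]
        have := hq (bar ha)
        rw [show θ (bar ha) = bar h1 from (hθ _).trans (congrArg QuotientGroup.mk (Subtype.ext (hθH _)))] at this
        exact this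
      show (k : G)⁻¹ * Ψ a * ((k : G)⁻¹)⁻¹ = a
      rw [h3]
      group
    have hfixd : (Ψ.trans (MulAut.conj (k : G)⁻¹)) d = d := by
      show (k : G)⁻¹ * Ψ d * ((k : G)⁻¹)⁻¹ = d
      rw [hΨd, hkd.inv_left.eq, mul_inv_cancel_right]
    obtain ⟨g, hg⟩ := key (Ψ.trans (MulAut.conj (k : G)⁻¹)) hfixd hfixp
    refine ⟨k * g, fun x => ?_⟩
    have e : (k : G)⁻¹ * Ψ x * ((k : G)⁻¹)⁻¹ = g * x * g⁻¹ := hg x
    calc Ψ x = k * ((k : G)⁻¹ * Ψ x * ((k : G)⁻¹)⁻¹) * (k : G)⁻¹ := by group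
      _ = _ := by rw [e]; group
  intro Λ hΛd hΛp
  obtain ⟨c, hc, hdc, -⟩ := K.orth
  -- fix a member outside
  suffices key : ∀ Λ : MulAut G, Λ d = d → (∀ a ∈ perp D d, Λ a = a) → Λ c = c → ∀ x, Λ x = x by
    rcases K.trace d K.mem c hc hdc (Λ c) ((K.map_class Λ).subset ⟨c, hc, rfl⟩)
        (fun h => hdc (Λ.injective (show Λ (d * c) = Λ (c * d) by rw [map_mul, map_mul, hΛd]; exact h.eq)))
        (fun s hs => hΛp s hs.1 ▸ hs.2.map Λ.toMonoidHom) with h | h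
    · exact ⟨1, fun x => by simpa using key Λ hΛd hΛp h x⟩
    · refine ⟨d, fun x => ?_⟩
      have hk := key (Λ.trans (MulAut.conj d)) (by simp [hΛd]) (fun a ha => ?_) ?_ x
      · calc Λ x = d⁻¹ * (d * Λ x * d⁻¹) * d := by group
          _ = d⁻¹ * x * d := by rw [show d * Λ x * d⁻¹ = x from hk]
          _ = d * x * d⁻¹ := by rw [inv_eq hD K.mem]
      · show d * Λ a * d⁻¹ = a
        rw [hΛp a ha, ha.2.2.eq, mul_inv_cancel_right]
      · show d * Λ c * d⁻¹ = c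
        rw [h, ← cj_conj hD K.mem, cj_cj hD K.mem]
  intro Λ hΛd hΛp hΛc x
  obtain ⟨X, hX⟩ : ∃ X : Subgroup G, X = MonoidHom.eqLocus Λ.toMonoidHom (MonoidHom.id G) := ⟨_, rfl⟩
  have hXm : ∀ y, y ∈ X ↔ Λ y = y := fun y => by rw [hX]; rfl
  have hHX : Subgroup.centralizer ({d} : Set G) ≤ X := by
    rw [← K.centralizer_eq, Subgroup.closure_le]
    exact fun a ha => (hXm a).2 (hΛp a ha)
  have hXtop : X = ⊤ := by
    have hdX : d ∈ X := (hXm d).2 hΛd
    obtain ⟨B, hB⟩ : ∃ B : Set G, B = {y | ∃ k ∈ X, k * d * k⁻¹ = y} := ⟨_, rfl⟩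
    have hiff : ∀ g, g * d * g⁻¹ ∈ B ↔ g ∈ X := by
      intro g
      rw [hB]
      refine ⟨?_, fun h => ⟨g, h, rfl⟩⟩
      rintro ⟨k, hk, e⟩
      have : k⁻¹ * g ∈ X := hHX (Subgroup.mem_centralizer_singleton_iff.2 (mul_inv_eq_iff_eq_mul.1 (show
        k⁻¹ * g * d * (k⁻¹ * g)⁻¹ = d by
          rw [show k⁻¹ * g * d * (k⁻¹ * g)⁻¹ = k⁻¹ * (g * d * g⁻¹) * k by group, ← e]; group)))
      simpa using mul_mem hk this
    have hBD : B ⊆ D := by
      rw [hB]
      rintro _ ⟨k, -, rfl⟩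
      exact hD.conj k d K.mem
    have hblock : ∀ g : G, (fun x => g * x * g⁻¹) '' B = B ∨ Disjoint ((fun x => g * x * g⁻¹) '' B) B := by
      intro g
      by_cases hg : g ∈ X
      · left
        rw [hB]
        refine Set.ext fun y => ⟨?_, fun ⟨k, hk, e⟩ => ⟨(g⁻¹ * k) * d * (g⁻¹ * k)⁻¹,
          ⟨g⁻¹ * k, mul_mem (inv_mem hg) hk, rfl⟩, by rw [← e]; group⟩⟩
        rintro ⟨_, ⟨k, hk, rfl⟩, rfl⟩
        exact ⟨g * k, mul_mem hg hk, by group⟩
      · right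
        rw [Set.disjoint_left]
        rintro _ ⟨y, hy, rfl⟩ hgy
        obtain ⟨k, hk, rfl⟩ := (hB ▸ hy : y ∈ {y | ∃ k ∈ X, k * d * k⁻¹ = y})
        beta_reduce at hgy
        rw [show g * (k * d * k⁻¹) * g⁻¹ = g * k * d * (g * k)⁻¹ by group, hiff] at hgy
        exact hg (by simpa using mul_mem hgy (inv_mem hk))
    rcases K.prim.2.2 B hBD hblock with hs | hs
    · exfalso
      have hd_mem : d ∈ B := by simpa using (hiff 1).2 (one_mem X)
      have he := hs ((hiff c).2 ((hXm c).2 hΛc)) hd_mem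
      exact hdc (mul_inv_eq_iff_eq_mul.1 he).symm
    · refine eq_top_iff.2 fun g _ => (hiff g).1 ?_
      rw [hs]
      exact hD.conj g d K.mem
  exact (hXm x).1 (hXtop ▸ Subgroup.mem_top x)

/-- Conjugation on the derived group is faithful. -/
theorem conjNormal_injective : Function.Injective (MulAut.conjNormal : G →* MulAut ↥(commutator G)) := by
  intro g h e
  obtain ⟨π, hπ⟩ : ∃ π : G → G, π = fun a => h⁻¹ * g * a * (h⁻¹ * g)⁻¹ := ⟨_, rfl⟩
  obtain ⟨ψ, hψ⟩ : ∃ ψ : MulAut ↥(commutator G), ψ = 1 := ⟨_, rfl⟩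
  have hfix : ∀ x ∈ commutator G, derExt ψ x = x := fun x hx => by
    rw [derExt_of_mem ψ ⟨x, hx⟩, hψ]; rfl
  have hcg : ∀ x ∈ commutator G, h⁻¹ * g * x * (h⁻¹ * g)⁻¹ = x := fun x hx => by
    have := congrArg (fun t : MulAut ↥(commutator G) => (t ⟨x, hx⟩ : G)) e
    simp only [MulAut.conjNormal_apply] at this
    calc h⁻¹ * g * x * (h⁻¹ * g)⁻¹ = h⁻¹ * (g * x * g⁻¹) * h := by group
      _ = x := by rw [this]; group
  have hπM : IsMemberMap D ψ π := fun a ha => by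
    refine ⟨hπ ▸ K.trans.conj _ a ha, fun b hb => ⟨hπ ▸ conj_perp K.fis _ a hb, ?_⟩⟩
    rw [hfix _ (K.pair_mem ha hb.1), hπ]
    refine (hcg _ (K.pair_mem ha hb.1)).symm.trans ?_
    group
  refine K.eq_of_centralizes fun a ha => ?_
  have h1 := K.memberMap_unique hπM ha ha fun b hb => ⟨b, hb, hfix _ (K.pair_mem ha hb.1)⟩
  rw [hπ] at h1
  beta_reduce at h1
  calc g * a * g⁻¹ = h * (h⁻¹ * g * a * (h⁻¹ * g)⁻¹) * h⁻¹ := by group
    _ = _ := by rw [h1]

/-- The outer automorphism group of the derived group has order two. -/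
theorem card_out_derived : Nat.card (Cfsg.Out ↥(commutator G)) = 2 := by
  obtain ⟨c, hc⟩ : ∃ c : G →* MulAut ↥(commutator G), c = MulAut.conjNormal := ⟨_, rfl⟩
  have hcs : Function.Surjective c := fun ψ => by
    obtain ⟨Φ, hΦ⟩ := K.exists_extension ψ
    obtain ⟨g, hg⟩ := K.aut_inner Φ
    refine ⟨g, MulEquiv.ext fun x => Subtype.ext ?_⟩
    rw [hc, MulAut.conjNormal_apply, ← hΦ x, hg]
  have hidx : (commutator G).index = 2 := by
    obtain ⟨χ, hχ, hker⟩ := K.exists_global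
    rw [show commutator G = χ.ker from SetLike.ext hker, Subgroup.index_ker,
      show χ.range = ⊤ from MonoidHom.range_eq_top.2 fun u => ?_, Subgroup.card_top]
    · simp
    · rcases Int.units_eq_one_or u with rfl | rfl
      exacts [⟨1, map_one χ⟩, ⟨d, hχ d K.mem⟩]
  have hinn : Cfsg.Inn ↥(commutator G) = (commutator G).map c := by
    refine SetLike.ext fun ψ => ⟨?_, ?_⟩
    · rintro ⟨x, rfl⟩
      exact ⟨x, x.2, MulEquiv.ext fun y => Subtype.ext (by rw [hc]; rfl)⟩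
    · rintro ⟨x, hx, rfl⟩
      exact ⟨⟨x, hx⟩, MulEquiv.ext fun y => Subtype.ext (by rw [hc]; rfl)⟩
  rw [show Nat.card (Cfsg.Out ↥(commutator G)) = (Cfsg.Inn ↥(commutator G)).index from rfl, hinn,
    Subgroup.index_map_of_bijective ⟨hc ▸ K.conjNormal_injective, hcs⟩, hidx]

end M24Data

end Cfsg.Lib.Fischer.Relations
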