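import Cfsg.Agent.Lib.Fischer.Relations.TwentyFour.PairDerived
import Cfsg.Agent.Lib.Fischer.Relations.TwentyFour.QuadCentralizer
import Cfsg.Agent.Lib.Fischer.Relations.TwentyFour.Involutions

/-!
# Pairs of commuting members seen from the derived group

In a class of type M(24) the products of two commuting members are the involutions of the derived group whose
centralizers there have order divisible by 11, and two of them are products `ab`, `ac` of a commuting triangle
exactly when their product is a third one and the second lies in the derived centralizer of the first.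
-/

set_option autoImplicit false
set_option linter.unusedSectionVars false

namespace Cfsg.Lib.Fischer.Relations

open Cfsg Cfsg.Lib.Fischer

universe u

variable {G : Type u} [Group G] [Finite G] {D : Set G}

/-- Two products of commuting members that share one member, seen from the derived group. -/
def DerAdj (D : Set G) (x y : ↥(commutator G)) : Prop :=
  IsProd D 2 (x : G) ∧ IsProd D 2 (y : G) ∧ IsProd D 2 ((x : G) * y) ∧
    y ∈ ⁅Subgroup.centralizer ({x} : Set ↥(commutator G)), Subgroup.centralizer ({x} : Set ↥(commutator G))⁆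

theorem derived_centralizer_map (x : ↥(commutator G)) :
    (Subgroup.centralizer ({x} : Set ↥(commutator G))).map (commutator G).subtype =
      commutator G ⊓ Subgroup.centralizer ({(x : G)} : Set G) := by
  ext g
  rw [Subgroup.mem_map, Subgroup.mem_inf, Subgroup.mem_centralizer_singleton_iff]
  constructor
  · rintro ⟨u, hu, rfl⟩
    exact ⟨u.2, congrArg Subtype.val (Subgroup.mem_centralizer_singleton_iff.1 hu)⟩
  · rintro ⟨h1, h2⟩
    exact ⟨⟨g, h1⟩, Subgroup.mem_centralizer_singleton_iff.2 (Subtype.ext h2), rfl⟩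

namespace M24Data

variable {d : G} (K : M24Data D d)
include K

theorem isProd_two_iff {x : G} : IsProd D 2 x ↔ ∃ a b, a ∈ D ∧ b ∈ perp D a ∧ x = a * b := by
  constructor
  · rintro ⟨l, hn, hlen, hl, hc, rfl⟩
    obtain ⟨a, b, rfl⟩ := List.length_eq_two.1 hlen
    exact ⟨a, b, hl a (by simp), ⟨hl b (by simp), fun e => by simp [e] at hn, hc a (by simp) b (by simp)⟩,
      by simp⟩
  · rintro ⟨a, b, ha, hb, rfl⟩
    exact ⟨[a, b], by simp [hb.2.1.symm], rfl, by simp [ha, hb.1], by simp [hb.2.2, hb.2.2.symm], by simp⟩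

/-- The members of a product of two commuting members are determined. -/
theorem pair_eq {a b c e : G} (ha : a ∈ D) (hb : b ∈ perp D a) (hc : c ∈ D) (he : e ∈ perp D c)
    (h : a * b = c * e) : (a = c ∧ b = e) ∨ (a = e ∧ b = c) := by
  have hiff := mem_iff_of_prod_eq K.trans K.noRel (l := [a, b]) (l' := [c, e]) (by simp [hb.2.1.symm])
    (by simp [he.2.1.symm]) (by simp [ha, hb.1]) (by simp [hc, he.1]) (by simp [hb.2.2, hb.2.2.symm])
    (by simp [he.2.2, he.2.2.symm]) (by simp) (by simp) (by simpa using h)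
  have h1 := (hiff a).1 (by simp)
  have h2 := (hiff b).1 (by simp)
  simp only [List.mem_cons, List.not_mem_nil, or_false] at h1 h2
  rcases h1 with e1 | e1 <;> rcases h2 with e2 | e2
  exacts [absurd (e2.trans e1.symm) hb.2.1, Or.inl ⟨e1, e2⟩, Or.inr ⟨e1, e2⟩, absurd (e2.trans e1.symm) hb.2.1]

theorem pair_mem {a b : G} (ha : a ∈ D) (hb : b ∈ D) : a * b ∈ commutator G := by
  obtain ⟨χ, hχ, hker⟩ := K.exists_global
  rw [hker, map_mul, hχ a ha, hχ b hb]
  decide

theorem pair_normal {a b : G} {CL : Subgroup G}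
    (hCL : CL = commutator G ⊓ Subgroup.centralizer ({a * b} : Set G)) :
    ((Subgroup.zpowers (a * b)).subgroupOf CL).Normal := ⟨fun u hu g => by
  have hg : Commute (g : G) (a * b) := Subgroup.mem_centralizer_singleton_iff.1 (hCL.le g.2).2
  obtain ⟨k, hk⟩ := Subgroup.mem_zpowers_iff.1 (Subgroup.mem_subgroupOf.1 hu)
  rw [Subgroup.mem_subgroupOf]
  push_cast
  rw [show (u : G) = (a * b) ^ k from hk.symm, (hg.zpow_right k).eq, mul_inv_cancel_right]
  exact Subgroup.zpow_mem_zpowers _ k⟩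

theorem eleven_dvd {x : ↥(commutator G)} (hx : IsProd D 2 (x : G)) :
    11 ∣ Nat.card ↥(Subgroup.centralizer ({x} : Set ↥(commutator G))) := by
  obtain ⟨a, b, ha, hb, e⟩ := K.isProd_two_iff.1 hx
  obtain ⟨CL, hCL⟩ : ∃ CL, CL = commutator G ⊓ Subgroup.centralizer ({a * b} : Set G) := ⟨_, rfl⟩
  haveI := K.pair_normal hCL
  obtain ⟨-, -, -, -, -, ⟨eQ⟩⟩ := K.pair_derived ha hb rfl hCL
  rw [← Subgroup.card_map_of_injective (commutator G).subtype_injective, derived_centralizer_map, e, ← hCL,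
    Subgroup.card_eq_card_quotient_mul_card_subgroup ((Subgroup.zpowers (a * b)).subgroupOf CL),
    Nat.card_congr eQ.toEquiv, card_mulAut_fi22]
  refine Dvd.dvd.mul_right (Dvd.dvd.mul_left ?_ _) _
  rw [(CosetEnum.Fi22Pres.isFi22 : Cfsg.IsFi22 Cfsg.Spor.Fi22).2]
  norm_num

theorem not_eleven_dvd {x : ↥(commutator G)} (hx : IsProd D 4 (x : G)) :
    ¬ 11 ∣ Nat.card ↥(Subgroup.centralizer ({x} : Set ↥(commutator G))) := by
  obtain ⟨Q, hQn, -, -, hQc, N, M, hN, -, -, hNM, hNc, ⟨F, _, _, hF, ⟨e⟩⟩, hM⟩ := K.quad_centralizer hx rfl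
  rw [← Subgroup.card_map_of_injective (commutator G).subtype_injective, derived_centralizer_map,
    ← Subgroup.index_mul_card M, hM, Subgroup.card_eq_card_quotient_mul_card_subgroup (N.subgroupOf M),
    Nat.card_congr e.toEquiv, Cfsg.Lib.Linear.PSUFourSeven.card_PSU hF,
    Nat.card_congr (Subgroup.subgroupOfEquivOfLe hNM).toEquiv, hNc, hQc]
  norm_num

theorem isProd_map (ψ : MulAut ↥(commutator G)) {x : ↥(commutator G)}
    (hx : IsProd D 2 (x : G)) : IsProd D 2 (ψ x : G) := by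
  have h2 := K.orderOf_prod (by norm_num) (by norm_num) hx
  have hsq : x * x = 1 := Subtype.ext (by
    have := pow_orderOf_eq_one (x : G)
    rwa [h2, pow_two] at this)
  have hy : (ψ x : G) * (ψ x : G) = 1 := congrArg Subtype.val (show ψ x * ψ x = 1 by rw [← map_mul, hsq, map_one])
  obtain ⟨χ, hχ, hker⟩ := K.exists_global
  have hc1 : χ (ψ x : G) = 1 := (hker _).1 (ψ x).2
  have hdvd : 11 ∣ Nat.card ↥(Subgroup.centralizer ({ψ x} : Set ↥(commutator G))) := by
    have e : (Subgroup.centralizer ({x} : Set ↥(commutator G))).map ψ.toMonoidHom =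
        Subgroup.centralizer ({ψ x} : Set ↥(commutator G)) := by
      ext g
      obtain ⟨g, rfl⟩ := ψ.surjective g
      rw [Subgroup.mem_centralizer_singleton_iff, ← map_mul, ← map_mul, ψ.injective.eq_iff,
        ← Subgroup.mem_centralizer_singleton_iff]
      exact Subgroup.mem_map_iff_mem ψ.injective
    rw [← e, Subgroup.card_map_of_injective ψ.injective]
    exact K.eleven_dvd hx
  obtain ⟨m, hm, hp⟩ := K.isProd_of_sq hy
  obtain ⟨l, hn, hlen, hl, hc, hpr⟩ := id hp
  rw [← hpr, map_list_prod, List.eq_replicate_of_mem (a := (-1 : ℤˣ)) (l := l.map χ) (fun b hb => by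
    obtain ⟨a, ha, rfl⟩ := List.mem_map.1 hb
    exact hχ a (hl a ha)), List.length_map, hlen, List.prod_replicate] at hc1
  interval_cases m
  · obtain rfl := List.length_eq_zero_iff.1 hlen
    have : x = 1 := ψ.injective (by rw [map_one]; exact Subtype.ext (by simpa using hpr.symm))
    rw [this, Subgroup.coe_one, orderOf_one] at h2
    omega
  · exact absurd hc1 (by decide)
  · exact hp
  · exact absurd hc1 (by decide)
  · exact absurd hdvd (K.not_eleven_dvd hp)

theorem commutator_le_pair {x : ↥(commutator G)} {a b : G} (ha : a ∈ D) (hb : b ∈ perp D a)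
    (hx : (x : G) = a * b) :
    ⁅Subgroup.centralizer ({x} : Set ↥(commutator G)), Subgroup.centralizer ({x} : Set ↥(commutator G))⁆.map
      (commutator G).subtype = commutator G ⊓ Subgroup.centralizer ({a, b} : Set G) := by
  obtain ⟨Kp, hKp⟩ : ∃ Kp, Kp = commutator G ⊓ Subgroup.centralizer ({a, b} : Set G) := ⟨_, rfl⟩
  obtain ⟨CL, hCL⟩ : ∃ CL, CL = commutator G ⊓ Subgroup.centralizer ({a * b} : Set G) := ⟨_, rfl⟩
  haveI := K.pair_normal hCL
  obtain ⟨hqs, -, hle, hidx, -, -⟩ := K.pair_derived ha hb hKp hCL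
  rw [Subgroup.map_commutator, derived_centralizer_map, hx, ← hCL, ← hKp]
  refine le_antisymm (Subgroup.commutator_le.2 fun g hg h hh => ?_) ?_
  · have hmul : ∀ u v : ↥CL, u * v ∈ Kp.subgroupOf CL ↔ (u ∈ Kp.subgroupOf CL ↔ v ∈ Kp.subgroupOf CL) :=
      fun u v => Subgroup.mul_mem_iff_of_index_two hidx
    have key : ∀ u v : ↥CL, u * v * u⁻¹ * v⁻¹ ∈ Kp.subgroupOf CL := fun u v => by
      rw [hmul, hmul, hmul, inv_mem_iff, inv_mem_iff]; tauto
    exact key ⟨g, hg⟩ ⟨h, hh⟩
  · calc Kp = ⁅Kp, Kp⁆ := (Subgroup.isPerfect_iff.1 hqs.1).symm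
      _ ≤ _ := Subgroup.commutator_mono hle hle

theorem derAdj_of_triad {x y : ↥(commutator G)} {a b c : G} (ha : a ∈ D) (h : Triad D a b c)
    (hx : (x : G) = a * b) (hy : (y : G) = a * c) : DerAdj D x y := by
  have hD := K.trans
  refine ⟨K.isProd_two_iff.2 ⟨a, b, ha, h.dy, hx⟩, K.isProd_two_iff.2 ⟨a, c, ha, h.dz, hy⟩,
    K.isProd_two_iff.2 ⟨b, c, h.dy.1, h.yz, ?_⟩, ?_⟩
  · calc (x : G) * y = a * b * a * c := by rw [hx, hy]; group
      _ = b * (a * a) * c := by rw [h.dy.2.2.eq]; group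
      _ = b * c := by rw [mul_self hD ha, mul_one]
  · refine (Subgroup.mem_map_iff_mem (commutator G).subtype_injective).1 ?_
    rw [K.commutator_le_pair ha h.dy hx]
    refine ⟨y.2, Subgroup.mem_centralizer_iff.2 ?_⟩
    show ∀ u ∈ ({a, b} : Set G), u * (y : G) = (y : G) * u
    rw [hy]
    rintro u (rfl | rfl)
    exacts [((Commute.refl u).mul_right h.dz.2.2).eq, (h.dy.2.2.symm.mul_right h.yz.2.2).eq]

theorem triad_of_derAdj {x y : ↥(commutator G)} (h : DerAdj D x y) :
    ∃ a b c, a ∈ D ∧ Triad D a b c ∧ (x : G) = a * b ∧ (y : G) = a * c := by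
  have hD := K.trans
  obtain ⟨hx, hy, hxy, hmem⟩ := h
  obtain ⟨a, b, ha, hb, ex⟩ := K.isProd_two_iff.1 hx
  obtain ⟨c, e, hc, he, ey⟩ := K.isProd_two_iff.1 hy
  have hy' : (y : G) ∈ commutator G ⊓ Subgroup.centralizer ({a, b} : Set G) :=
    K.commutator_le_pair ha hb ex ▸ ⟨y, hmem, rfl⟩
  have hfix : ∀ u ∈ D, u ∈ ({a, b} : Set G) → Commute u c ∧ Commute u e := by
    intro u hu hm
    have hu' : Commute u (c * e) := by
      rw [← ey]; exact Subgroup.mem_centralizer_iff.1 hy'.2 u hm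
    rcases K.pair_cases hc he hu' with h | ⟨h1, -⟩
    · exact h
    · exfalso
      have hn : ¬ Commute u c := fun h => he.2.1 (by rw [← h1, h.eq, mul_inv_cancel_right])
      exact K.not_commute_conj hu hc hn (by rw [h1]; exact he.2.2)
  obtain ⟨hac, hae⟩ := hfix a ha (by simp)
  obtain ⟨hbc, hbe⟩ := hfix b hb.1 (by simp)
  have hnxy : (x : G) ≠ y := fun eq => by
    have h0 : IsProd D 0 ((x : G) * y) := by
      rw [← eq]
      refine ⟨[], List.nodup_nil, rfl, by simp, by simp, ?_⟩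
      have := pow_orderOf_eq_one (x : G)
      rw [K.orderOf_prod (by norm_num) (by norm_num) hx, pow_two] at this
      simp [this]
    exact absurd (K.prod_length (by norm_num) (by norm_num) h0 hxy) (by norm_num)
  rcases eq_or_ne a c with rfl | nac
  · exact ⟨a, b, e, ha, ⟨hb, he, ⟨he.1, fun eq => hnxy (by rw [ex, ey, eq]), hbe⟩⟩, ex, ey⟩
  rcases eq_or_ne a e with rfl | nae
  · have hyc : (y : G) = a * c := by rw [ey, he.2.2.eq]
    exact ⟨a, b, c, ha, ⟨hb, ⟨hc, nac.symm, hac⟩, ⟨hc, fun eq => hnxy (by rw [ex, hyc, eq]), hbc⟩⟩, ex, hyc⟩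
  rcases eq_or_ne b c with rfl | nbc
  · exact ⟨b, a, e, hb.1, ⟨⟨ha, hb.2.1.symm, hb.2.2.symm⟩, he, ⟨he.1, nae.symm, hae⟩⟩,
      by rw [ex, hb.2.2.eq], ey⟩
  rcases eq_or_ne b e with rfl | nbe
  · exact ⟨b, a, c, hb.1, ⟨⟨ha, hb.2.1.symm, hb.2.2.symm⟩, ⟨hc, nbc.symm, hbc⟩, ⟨hc, nac.symm, hac⟩⟩,
      by rw [ex, hb.2.2.eq], by rw [ey, he.2.2.eq]⟩
  exfalso
  have h4 : IsProd D 4 ((x : G) * y) := by
    refine ⟨[a, b, c, e], ?_, rfl, by simp [ha, hb.1, hc, he.1], ?_, by rw [ex, ey]; simp [mul_assoc]⟩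
    · simp [hb.2.1.symm, nac, nae, nbc, nbe, he.2.1.symm]
    · simp [hb.2.2, hb.2.2.symm, hac, hac.symm, hae, hae.symm, hbc, hbc.symm, hbe, hbe.symm, he.2.2, he.2.2.symm]
  exact absurd (K.prod_length (by norm_num) (by norm_num) h4 hxy) (by norm_num)

theorem derAdj_map (ψ : MulAut ↥(commutator G)) {x y : ↥(commutator G)} (h : DerAdj D x y) :
    DerAdj D (ψ x) (ψ y) := by
  obtain ⟨hx, hy, hxy, hmem⟩ := h
  refine ⟨K.isProd_map ψ hx, K.isProd_map ψ hy, ?_, ?_⟩
  · have := K.isProd_map ψ (x := x * y) hxy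
    rwa [map_mul, Subgroup.coe_mul] at this
  · have e : (Subgroup.centralizer ({x} : Set ↥(commutator G))).map ψ.toMonoidHom =
        Subgroup.centralizer ({ψ x} : Set ↥(commutator G)) := by
      ext g
      obtain ⟨g, rfl⟩ := ψ.surjective g
      rw [Subgroup.mem_centralizer_singleton_iff, ← map_mul, ← map_mul, ψ.injective.eq_iff,
        ← Subgroup.mem_centralizer_singleton_iff]
      exact Subgroup.mem_map_iff_mem ψ.injective
    rw [← e, ← Subgroup.map_commutator]
    exact ⟨y, hmem, rfl⟩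

end M24Data

end Cfsg.Lib.Fischer.Relations
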