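import Cfsg.Agent.Lib.Fischer.Relations.TwentyFour.DerivedAut.Pairs

/-!
# The members seen as stars of pairs

An automorphism of the derived group permutes the products of two commuting members and respects sharing a
member, so it comes from a permutation of the members.
-/

set_option autoImplicit false
set_option linter.unusedSectionVars false

namespace Cfsg.Lib.Fischer.Relations

open Cfsg Cfsg.Lib.Fischer

universe u

variable {G : Type u} [Group G] [Finite G] {D : Set G}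

/-- An automorphism of the derived group, extended by the identity. -/
noncomputable def derExt (ψ : MulAut ↥(commutator G)) (g : G) : G :=
  letI := Classical.dec (g ∈ commutator G)
  if h : g ∈ commutator G then (ψ ⟨g, h⟩ : G) else g

theorem derExt_of_mem (ψ : MulAut ↥(commutator G)) (x : ↥(commutator G)) : derExt ψ (x : G) = (ψ x : G) := by
  rw [derExt, dif_pos x.2]

theorem derExt_mul (ψ : MulAut ↥(commutator G)) {g h : G} (hg : g ∈ commutator G) (hh : h ∈ commutator G) :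
    derExt ψ (g * h) = derExt ψ g * derExt ψ h := by
  show derExt ψ ((⟨g, hg⟩ * ⟨h, hh⟩ : ↥(commutator G)) : G) = _
  rw [derExt_of_mem, map_mul, Subgroup.coe_mul, ← derExt_of_mem ψ ⟨g, hg⟩, ← derExt_of_mem ψ ⟨h, hh⟩]

theorem derExt_inj (ψ : MulAut ↥(commutator G)) {g h : G} (hg : g ∈ commutator G) (hh : h ∈ commutator G)
    (e : derExt ψ g = derExt ψ h) : g = h := by
  rw [derExt_of_mem ψ ⟨g, hg⟩, derExt_of_mem ψ ⟨h, hh⟩] at e
  exact congrArg Subtype.val (ψ.injective (Subtype.ext e))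

theorem derExt_symm (ψ : MulAut ↥(commutator G)) {g : G} (hg : g ∈ commutator G) :
    derExt ψ.symm (derExt ψ g) = g := by
  rw [derExt_of_mem ψ ⟨g, hg⟩, derExt_of_mem, MulEquiv.symm_apply_apply]

theorem derExt_conj (ψ : MulAut ↥(commutator G)) {g h : G} (hg : g ∈ commutator G) (hh : h ∈ commutator G) :
    derExt ψ (g * h * g⁻¹) = derExt ψ g * derExt ψ h * (derExt ψ g)⁻¹ := by
  rw [derExt_mul ψ (mul_mem hg hh) (inv_mem hg), derExt_mul ψ hg hh]
  congr 1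
  refine eq_inv_of_mul_eq_one_left ?_
  rw [← derExt_mul ψ (inv_mem hg) hg, inv_mul_cancel]
  show derExt ψ ((1 : ↥(commutator G)) : G) = 1
  rw [derExt_of_mem, map_one, Subgroup.coe_one]

/-- The image of a triangle at `a` is a triangle at `p`. -/
def StarAt (D : Set G) (ψ : MulAut ↥(commutator G)) (a b c p : G) : Prop :=
  ∃ q r, p ∈ D ∧ Triad D p q r ∧ derExt ψ (a * b) = p * q ∧ derExt ψ (a * c) = p * r

namespace M24Data

variable {d : G} (K : M24Data D d)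
include K

theorem exists_starAt (ψ : MulAut ↥(commutator G)) {a b c : G} (ha : a ∈ D) (h : Triad D a b c) :
    ∃ p, StarAt D ψ a b c p := by
  have h1 := K.pair_mem ha h.dy.1
  have h2 := K.pair_mem ha h.dz.1
  obtain ⟨p, q, r, hp, ht, e1, e2⟩ := K.triad_of_derAdj
    (K.derAdj_map ψ (K.derAdj_of_triad (x := ⟨a * b, h1⟩) (y := ⟨a * c, h2⟩) ha h rfl rfl))
  exact ⟨p, q, r, hp, ht, (derExt_of_mem ψ ⟨a * b, h1⟩).trans e1, (derExt_of_mem ψ ⟨a * c, h2⟩).trans e2⟩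

omit K in
theorem starAt_swap {ψ : MulAut ↥(commutator G)} {a b c p : G} (h : StarAt D ψ a b c p) :
    StarAt D ψ a c b p := by
  obtain ⟨q, r, hp, ht, e1, e2⟩ := h
  exact ⟨r, q, hp, ⟨ht.dz, ht.dy, ⟨ht.dy.1, ht.yz.2.1.symm, ht.yz.2.2.symm⟩⟩, e2, e1⟩

theorem starAt_unique {ψ : MulAut ↥(commutator G)} {a b c p p' : G} (h : StarAt D ψ a b c p)
    (h' : StarAt D ψ a b c p') : p = p' := by
  obtain ⟨q, r, hp, ht, e1, e2⟩ := h
  obtain ⟨q', r', hp', ht', e1', e2'⟩ := h'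
  rcases K.pair_eq hp ht.dy hp' ht'.dy (e1.symm.trans e1') with ⟨e, -⟩ | ⟨f1, f2⟩
  · exact e
  rcases K.pair_eq hp ht.dz hp' ht'.dz (e2.symm.trans e2') with ⟨e, -⟩ | ⟨-, g2⟩
  · exact e
  · exact absurd (g2.trans f2.symm) ht.yz.2.1

/-- Four commuting members have one common image point at the first. -/
theorem starAt_step {ψ : MulAut ↥(commutator G)} {a b c e p : G} (ha : a ∈ D) (h : Triad D a b c)
    (h' : Triad D a b e) (h'' : Triad D a c e) (hp : StarAt D ψ a b c p) : StarAt D ψ a b e p := by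
  have hD := K.trans
  obtain ⟨q, r, hpD, ht, e1, e2⟩ := hp
  obtain ⟨p', hp'⟩ := K.exists_starAt ψ ha h'
  obtain ⟨q', r', hp'D, ht', e1', e3⟩ := id hp'
  rcases K.pair_eq hpD ht.dy hp'D ht'.dy (e1.symm.trans e1') with ⟨f1, -⟩ | ⟨f1, f2⟩
  · rw [f1]; exact hp'
  exfalso
  subst f1 f2
  obtain ⟨p'', q'', r'', hp''D, ht'', e2', e3'⟩ := K.exists_starAt ψ ha h''
  have hbc : derExt ψ (b * c) = q * r := by
    rw [show b * c = a * b * (a * c) by
      rw [show a * b * (a * c) = a * (b * a) * c by group, h.dy.2.2.symm.eq, ← mul_assoc, mul_self hD ha, one_mul],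
      derExt_mul ψ (K.pair_mem ha h.dy.1) (K.pair_mem ha h.dz.1), e1, e2,
      show p * q * (p * r) = p * (q * p) * r by group, ht.dy.2.2.symm.eq, ← mul_assoc, mul_self hD hpD, one_mul]
  have key : r = r' → False := fun heq => by
    have h0 : a * e = b * c := derExt_inj ψ (K.pair_mem ha h'.dz.1) (K.pair_mem h.dy.1 h.dz.1)
      (by rw [e3, hbc, heq])
    rcases K.pair_eq ha h'.dz h.dy.1 h.yz h0 with ⟨g1, -⟩ | ⟨g1, -⟩
    exacts [h.dy.2.1 g1.symm, h.dz.2.1 g1.symm]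
  rcases K.pair_eq hpD ht.dz hp''D ht''.dy (e2.symm.trans e2') with ⟨g1, g2⟩ | ⟨g1, g2⟩ <;>
    rcases K.pair_eq hp'D ht'.dz hp''D ht''.dz (e3.symm.trans e3') with ⟨g3, g4⟩ | ⟨g3, g4⟩
  · exact ht.dy.2.1 (g3.trans g1.symm)
  · have h0 : a * e = a * b := derExt_inj ψ (K.pair_mem ha h'.dz.1) (K.pair_mem ha h.dy.1) (by
      rw [e3, e1, show r' = p from g4.trans g1.symm, ht.dy.2.2.eq])
    exact h'.yz.2.1 (mul_left_cancel h0)
  · exact ht.yz.2.1 (g2.trans g3.symm)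
  · exact key (g2.trans g4.symm)

/-- Two non-commuting members commuting with a pair have a common commuting member there. -/
theorem exists_common_two {a b c c' : G} (ha : a ∈ D) (h : Triad D a b c) (h' : Triad D a b c')
    (hcc : ¬ Commute c c') : ∃ e, Triad D a b e ∧ Triad D a c e ∧ Triad D a e c' := by
  have hD := K.trans
  obtain ⟨F, _, _, hF, e₀, f, ⟨C⟩⟩ := K.exists_coord
  obtain ⟨y, hy, rfl⟩ := exists_bar C.data.mem
  obtain ⟨g, ga, gb⟩ := K.exists_move ha h.dy hy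
  have hsub : ∀ u ∈ perp D d, u ∈ D := fun u hu => hu.1
  have hto : ∀ {u}, u ∈ perp D a → u ∈ perp D b → ∃ hu : g * u * g⁻¹ ∈ perp D d,
      bar hu ∈ perp (image (perp D d)) (bar hy) := fun {u} h1 h2 => by
    have k1 : g * u * g⁻¹ ∈ perp D d := ga ▸ conj_perp K.fis g a h1
    have k2 : g * u * g⁻¹ ∈ perp D y := gb ▸ conj_perp K.fis g b h2
    exact ⟨k1, bar_mem k1, fun e => k2.2.1 (bar_inj hD hsub K.nc k1 hy e), (bar_commute hD hsub hy k1).2 k2.2.2⟩
  obtain ⟨hu, hu'⟩ := hto h.dz h.yz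
  obtain ⟨hv, hv'⟩ := hto h'.dz h'.yz
  have hsub2 : ∀ u ∈ perp (image (perp D d)) (bar hy), u ∈ image (perp D d) := fun u hu => hu.1
  obtain ⟨w, hw, hwc⟩ := common_nonempty C.data.imgFis (bar_mem hu') (bar_mem hv') fun hc => hcc
    ((Commute.conj_iff g).1 ((bar_commute hD hsub hu hv).1 ((bar_commute K.imgTrans hsub2 hu' hv').1 hc)))
  obtain ⟨w₁, hw₁, rfl⟩ := exists_bar hw.1
  obtain ⟨w₂, hw₂, rfl⟩ := exists_bar hw₁.1
  have k1 : w₂ ∈ perp D y := ⟨hw₂.1, fun e => hw₁.2.1 (by subst e; rfl), (bar_commute hD hsub hy hw₂).1 hw₁.2.2⟩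
  have k2 : Commute (g * c * g⁻¹) w₂ :=
    (bar_commute hD hsub hu hw₂).1 ((bar_commute K.imgTrans hsub2 hu' hw₁).1 hw.2.2)
  have k3 : Commute (g * c' * g⁻¹) w₂ :=
    (bar_commute hD hsub hv hw₂).1 ((bar_commute K.imgTrans hsub2 hv' hw₁).1 hwc)
  obtain ⟨e, rfl⟩ : ∃ e, g * e * g⁻¹ = w₂ := ⟨g⁻¹ * w₂ * g, by group⟩
  have back : ∀ {u v}, g * u * g⁻¹ ∈ perp D (g * v * g⁻¹) → u ∈ perp D v := fun {u v} hm => by
    have := conj_perp K.fis g⁻¹ _ hm
    simpa [mul_assoc] using this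
  have m1 : e ∈ perp D a := back (ga.symm ▸ hw₂)
  have m2 : e ∈ perp D b := back (gb.symm ▸ k1)
  have m3 : Commute c e := (Commute.conj_iff g).1 k2
  have m4 : Commute c' e := (Commute.conj_iff g).1 k3
  refine ⟨e, ⟨h.dy, m1, m2⟩, ⟨h.dz, m1, m1.1, fun e' => hcc (e' ▸ m4).symm, m3⟩, ⟨m1, h'.dz, h'.dz.1, fun e' => hcc ?_, m4.symm⟩⟩
  rw [e']
  exact m3

/-- Two non-commuting members commuting with a member have a common commuting member there. -/
theorem exists_common_one {a b b' : G} (ha : a ∈ D) (h : b ∈ perp D a) (h' : b' ∈ perp D a)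
    (hbb : ¬ Commute b b') : ∃ e, Triad D a b e ∧ Triad D a e b' := by
  have hD := K.trans
  obtain ⟨g, ga⟩ := hD.trans a ha d K.mem
  have hsub : ∀ u ∈ perp D d, u ∈ D := fun u hu => hu.1
  have hu : g * b * g⁻¹ ∈ perp D d := ga ▸ conj_perp K.fis g a h
  have hv : g * b' * g⁻¹ ∈ perp D d := ga ▸ conj_perp K.fis g a h'
  obtain ⟨w, hw, hwc⟩ := common_nonempty K.imgFis (bar_mem hu) (bar_mem hv)
    fun hc => hbb ((Commute.conj_iff g).1 ((bar_commute hD hsub hu hv).1 hc))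
  obtain ⟨w₁, hw₁, rfl⟩ := exists_bar hw.1
  have k2 : Commute (g * b * g⁻¹) w₁ := (bar_commute hD hsub hu hw₁).1 hw.2.2
  have k3 : Commute (g * b' * g⁻¹) w₁ := (bar_commute hD hsub hv hw₁).1 hwc
  obtain ⟨e, rfl⟩ : ∃ e, g * e * g⁻¹ = w₁ := ⟨g⁻¹ * w₁ * g, by group⟩
  have m1 : e ∈ perp D a := by
    have := conj_perp K.fis g⁻¹ _ (ga.symm ▸ hw₁)
    simpa [mul_assoc] using this
  have m3 : Commute b e := (Commute.conj_iff g).1 k2
  have m4 : Commute b' e := (Commute.conj_iff g).1 k3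
  exact ⟨e, ⟨h, m1, m1.1, fun e' => hbb (e' ▸ m4).symm, m3⟩,
    ⟨m1, h', h'.1, fun e' => hbb (by rw [e']; exact m3), m4.symm⟩⟩

theorem starAt_indep {ψ : MulAut ↥(commutator G)} {a b c c' p : G} (ha : a ∈ D) (h : Triad D a b c)
    (h' : Triad D a b c') (hp : StarAt D ψ a b c p) : StarAt D ψ a b c' p := by
  rcases eq_or_ne c c' with rfl | hne
  · exact hp
  by_cases hc : Commute c c'
  · exact K.starAt_step ha h h' ⟨h.dz, h'.dz, h'.dz.1, hne.symm, hc⟩ hp
  · obtain ⟨e, h1, h2, h3⟩ := K.exists_common_two ha h h' hc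
    exact K.starAt_step ha h1 h' h3 (K.starAt_step ha h h1 h2 hp)

theorem exists_star (ψ : MulAut ↥(commutator G)) {a : G} (ha : a ∈ D) :
    ∃ p ∈ D, ∀ b ∈ perp D a, ∃ q ∈ perp D p, derExt ψ (a * b) = p * q := by
  obtain ⟨g, hg⟩ := K.trans.trans d K.mem a ha
  obtain ⟨u₀, hu₀, -⟩ := exists_bar (S := perp D d) K.imgTrans.ne.choose_spec
  have hb₀ : g * u₀ * g⁻¹ ∈ perp D a := hg ▸ conj_perp K.fis g d hu₀
  obtain ⟨c₀, hc₀⟩ := K.exists_triad ha hb₀
  obtain ⟨p, hp⟩ := K.exists_starAt ψ ha hc₀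
  have all : ∀ b c, Triad D a b c → StarAt D ψ a b c p := by
    have step : ∀ {b c b' c'}, Triad D a b c → Triad D a b' c' → b' ∈ perp D b → StarAt D ψ a b c p →
        StarAt D ψ a b' c' p := fun {b c b' c'} h h' hbb hp => by
      have k : Triad D a b b' := ⟨h.dy, h'.dy, hbb⟩
      have k' : Triad D a b' b := ⟨h'.dy, h.dy, h.dy.1, hbb.2.1.symm, hbb.2.2.symm⟩
      exact K.starAt_indep ha k' h' (starAt_swap (K.starAt_indep ha h k hp))
    intro b c h
    rcases eq_or_ne b (g * u₀ * g⁻¹) with rfl | hne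
    · exact K.starAt_indep ha hc₀ h hp
    by_cases hc : Commute (g * u₀ * g⁻¹) b
    · exact step hc₀ h ⟨h.dy.1, hne, hc⟩ hp
    · obtain ⟨e, h1, h2⟩ := K.exists_common_one ha hb₀ h.dy hc
      obtain ⟨c₁, hc₁⟩ := K.exists_triad ha h1.dz
      exact step hc₁ h h2.yz (step hc₀ hc₁ h1.yz hp)
  obtain ⟨-, -, hpD, -, -, -⟩ := id hp
  refine ⟨p, hpD, fun b hb => ?_⟩
  obtain ⟨c, hc⟩ := K.exists_triad ha hb
  obtain ⟨q, r, -, ht, e1, -⟩ := all b c hc
  exact ⟨q, ht.dy, e1⟩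

end M24Data

end Cfsg.Lib.Fischer.Relations
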